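import Cfsg.Agent.Lib.Solv.FourFree.W.Functor
import Cfsg.Agent.Lib.Local.FS.FreeConstrained
import Cfsg.Agent.Lib.LocalEven.SFourInvolved

/-!
# Fusion systems free of `S₄` or `S₃`

The functor value of `S` is normal in every saturated system free of `S₄`, and a system whose automorphism groups
have no section `S₃` is free of `S₄`.
-/

set_option autoImplicit false
set_option linter.style.haveILetI false

namespace Cfsg.Agent.Solv.FourFree

open Cfsg Cfsg.FusionSystem Cfsg.Agent.Local.FS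
open Cfsg.Agent.Fusion (cj SylIn)

universe u

variable {Ω : Type u} [Group Ω] {S : Subgroup Ω} [Finite S] {F : FusionSystem S}

theorem wSub_normal_system (hS : IsPGroup 2 S) (hF : F.IsSaturated 2)
    (hfree : F.IsSectionFree 2 (Equiv.Perm (Fin 4))) :
    F.IsNormal (inducedFunctor (fun (Q : Type u) [Group Q] => wSub Q) S) :=
  haveI : Fact (Nat.Prime 2) := ⟨Nat.prime_two⟩
  functor_normal_of_free.{u} (W := fun (Q : Type u) [Group Q] => wSub Q) isCharPFunctor_wSub.1
    isCharPFunctor_wSub.2 wSub_induced_normal hS hF hfree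

theorem constrained_of_sfour_free (hS : IsPGroup 2 S) (hF : F.IsSaturated 2)
    (hfree : F.IsSectionFree 2 (Equiv.Perm (Fin 4))) : F.IsConstrained 2 :=
  haveI : Fact (Nat.Prime 2) := ⟨Nat.prime_two⟩
  constrained_of_free.{u} (W := fun (Q : Type u) [Group Q] => wSub Q) isCharPFunctor_wSub.1
    isCharPFunctor_wSub.2 wSub_induced_normal hS hF hfree

/-- Automorphism groups free of `S₃` give models free of `S₄`. -/
theorem sectionFree_of_autFree
    (h3 : ∀ U : Subgroup Ω, U ≤ S → ¬ Cfsg.Involves (Equiv.Perm (Fin 3)) ↥(F.autGroup U)) :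
    F.IsSectionFree 2 (Equiv.Perm (Fin 4)) := by
  intro Q _ _ E hE L _ ι hL hinv
  haveI : Fact (Nat.Prime 2) := ⟨Nat.prime_two⟩
  haveI := hL.1
  obtain ⟨T, hT, hT3⟩ := Agent.LocalEven.SFour.automizer_of_involves hinv
  obtain ⟨P, hP⟩ := hL.2.2.1
  obtain ⟨c, -, hc⟩ := (Fusion.sylIn_top P).conj_le hT le_top
  rw [hP] at hc
  let V := normalizerIn S Q
  let U : Subgroup Ω := ((cj T c).comap ι).map V.subtype
  have hUV : U ≤ V := Subgroup.map_subtype_le _
  have hUS : U ≤ S := hUV.trans inf_le_left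
  have hinjι : Function.Injective ι := hL.2.1.1
  have hmem : ∀ x : V, (x : Ω) ∈ U ↔ ι x ∈ cj T c := fun x =>
    Subgroup.mem_map_iff_mem V.subtype_injective
  have hcj : ∀ n ∈ Subgroup.normalizer (T : Set L), ∀ x : V, (x : Ω) ∈ U →
      c * n * c⁻¹ * ι x * (c * n * c⁻¹)⁻¹ ∈ cj T c := by
    intro n hn x hx
    obtain ⟨t, ht, e⟩ := (hmem x).1 hx
    refine ⟨n * t * n⁻¹, (Subgroup.mem_normalizer_iff.1 hn t).1 ht, ?_⟩
    rw [← e]
    show c * (n * t * n⁻¹) * c⁻¹ = c * n * c⁻¹ * (c * t * c⁻¹) * (c * n * c⁻¹)⁻¹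
    group
  have key : ∀ n : Subgroup.normalizer (T : Set L), ∃ α : MulAut U, α ∈ F.autGroup U ∧
      ∀ x : U, ι ⟨(α x : Ω), hUV (α x).2⟩ = c * n * c⁻¹ * ι ⟨x, hUV x.2⟩ * (c * n * c⁻¹)⁻¹ := by
    intro n
    obtain ⟨f, hf, hfc⟩ := exists_map_of_conj hL.2.1 hUV (c * (n : L) * c⁻¹)
      fun x hx => hc (hcj n n.2 x hx)
    have hfU : ∀ x : V, (x : Ω) ∈ U → ∃ y : V, (y : Ω) ∈ U ∧ f x = y ∧
        ι y = c * n * c⁻¹ * ι x * (c * n * c⁻¹)⁻¹ := fun x hx => by
      obtain ⟨y, hy⟩ := hc (hcj n n.2 x hx)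
      exact ⟨y, (hmem y).2 (hy ▸ hcj n n.2 x hx), hfc x hx y hy, hy⟩
    have him : im U f = U := by
      haveI := finite_of_le hUS
      refine Subgroup.eq_of_le_of_card_ge (im_le_iff.2 fun x hx => ?_) hf.card_im.ge
      obtain ⟨y, hy, e, -⟩ := hfU ⟨x, hUV hx⟩ hx
      rw [show f x = y from e]
      exact hy
    obtain ⟨-, -, g, hg, hgf, -⟩ := (map_normalizerSystem_iff hE).1 hf
    obtain ⟨α, hα, hαf⟩ := exists_aut ((hg.restrict le_sup_left).congr hgf) him
    refine ⟨α, hα, fun x => ?_⟩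
    obtain ⟨y, -, e, hy⟩ := hfU ⟨x, hUV x.2⟩ x.2
    rw [← hy]
    refine congrArg ι (Subtype.ext ?_)
    show (α x : Ω) = y
    rw [← av_coe, hαf _ x.2]
    exact e
  choose φ hφ hφc using key
  have hφmul : ∀ a b, φ (a * b) = φ a * φ b := fun a b => by
    refine MulEquiv.ext fun x => Subtype.ext (Subtype.mk.inj (hinjι (a₁ := ⟨_, hUV (φ (a * b) x).2⟩)
      (a₂ := ⟨_, hUV ((φ a * φ b) x).2⟩) ?_))
    rw [hφc (a * b) x]
    show _ = ι ⟨(φ a (φ b x) : Ω), _⟩
    rw [hφc a, hφc b, Subgroup.coe_mul]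
    group
  let ψ : Subgroup.normalizer (T : Set L) →* ↥(F.autGroup U) :=
    MonoidHom.mk' (fun n => ⟨φ n, hφ n⟩) fun a b => Subtype.ext (hφmul a b)
  have hker : ψ.ker = (Subgroup.centralizer (T : Set L)).subgroupOf (Subgroup.normalizer (T : Set L)) := by
    ext n
    constructor
    · intro hn
      refine Subgroup.mem_centralizer_iff.2 fun t ht => ?_
      obtain ⟨x, hx⟩ := hc ⟨t, ht, rfl⟩
      have hxU : (x : Ω) ∈ U := (hmem x).2 (hx ▸ ⟨t, ht, rfl⟩)
      have h1 := hφc n ⟨x, hxU⟩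
      rw [show φ n = 1 from congrArg Subtype.val (MonoidHom.mem_ker.1 hn)] at h1
      change ι x = c * n * c⁻¹ * ι x * (c * n * c⁻¹)⁻¹ at h1
      rw [hx] at h1
      change c * t * c⁻¹ = c * n * c⁻¹ * (c * t * c⁻¹) * (c * n * c⁻¹)⁻¹ at h1
      have h2 := congrArg (fun z => c⁻¹ * z * c) h1
      simp only [mul_assoc, inv_mul_cancel_left, inv_mul_cancel, mul_one, mul_inv_rev, inv_inv] at h2
      calc t * (n : L) = n * (t * (n : L)⁻¹) * n := by rw [← h2]
        _ = n * t := by group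
    · intro hn
      refine MonoidHom.mem_ker.2 (Subtype.ext (MulEquiv.ext fun x => Subtype.ext
        (Subtype.mk.inj (hinjι (a₁ := ⟨_, hUV (φ n x).2⟩) (a₂ := ⟨(x : Ω), hUV x.2⟩) ?_))))
      rw [hφc n x]
      obtain ⟨t, ht, e⟩ := (hmem ⟨x, hUV x.2⟩).1 x.2
      rw [← e]
      show c * n * c⁻¹ * (c * t * c⁻¹) * (c * n * c⁻¹)⁻¹ = c * t * c⁻¹
      have h3 : (n : L) * t * (n : L)⁻¹ = t := by
        have h4 : t * (n : L) = (n : L) * t := Subgroup.mem_centralizer_iff.1 hn t ht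
        rw [← h4, mul_inv_cancel_right]
      calc c * n * c⁻¹ * (c * t * c⁻¹) * (c * n * c⁻¹)⁻¹ = c * ((n : L) * t * (n : L)⁻¹) * c⁻¹ := by group
        _ = _ := by rw [h3]
  refine h3 U hUS ?_
  obtain ⟨K, f, hf⟩ := Fusion.involves_exists_surjective hT3
  have e := QuotientGroup.quotientMulEquivOfEq hker.symm
  have h4 : Cfsg.Involves (Equiv.Perm (Fin 3)) ↥ψ.range := by
    let j := e.trans (QuotientGroup.quotientKerEquivRange ψ)
    exact Fusion.involves_of_surjective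
      (f.comp (K.equivMapOfInjective j.toMonoidHom j.injective).symm.toMonoidHom)
      (hf.comp (K.equivMapOfInjective j.toMonoidHom j.injective).symm.surjective)
  obtain ⟨K', f', hf'⟩ := Fusion.involves_exists_surjective h4
  exact Fusion.involves_of_surjective
    (f'.comp (K'.equivMapOfInjective ψ.range.subtype ψ.range.subtype_injective).symm.toMonoidHom)
    (hf'.comp (K'.equivMapOfInjective ψ.range.subtype ψ.range.subtype_injective).symm.surjective)

end Cfsg.Agent.Solv.FourFree
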